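import Mathlib
import Groth.Prelude.Def_CAlg
import Groth.Agent.KoszShLib.CMLocal
import Groth.Agent.Gorenstein.BaseChange
import Groth.Agent.GrMod.Polynomial
import Groth.Agent.Smt.GlueLocal
import Groth.Agent.Ega4Algebra2.CMEquiv
import Groth.Agent.Ega4Algebra2.CMUnmixed
import Groth.Agent.EGA41Two.CMPrime
import Groth.Agent.Calg1.SerreConditions
import Groth.Agent.Calg4.RegularAscent

/-! Complete intersections in polynomial rings: CM local rings, normality of the cone (S10918). -/

set_option autoImplicit false

universe u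

open MvPolynomial IsLocalRing RingTheory.Sequence

namespace Groth.CIntNormal

theorem isRegularLocalRing_of_normal_dim_le_one {L : Type u} [CommRing L] [IsLocalRing L]
    [IsNoetherianRing L] [IsDomain L] [IsIntegrallyClosed L] (hdim : ringKrullDim L ≤ 1) :
    IsRegularLocalRing L := by
  by_cases hf : IsField L
  · exact Groth.Ega4Algebra1.isRegularLocalRing_of_maximalIdeal_eq_bot
      (isField_iff_maximalIdeal_eq.mp hf)
  haveI : Ring.KrullDimLE 1 L := Ring.krullDimLE_iff.mpr hdim
  have hprinc : (maximalIdeal L).IsPrincipal := by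
    refine (List.TFAE.out (tfae_of_isNoetherianRing_of_isLocalRing_of_isDomain L) 3 4 rfl rfl).mp ?_
    exact ⟨inferInstance, fun P hP0 hPp => eq_maximalIdeal
        ((Ring.krullDimLE_one_iff.1 ‹_› P hPp).resolve_left fun hm => hP0
          (by simpa [IsDomain.minimalPrimes_eq_singleton_bot] using hm))⟩
  refine IsRegularLocalRing.of_spanFinrank_maximalIdeal_le _ ?_
  have hne : maximalIdeal L ≠ ⊥ := fun e => hf (isField_iff_maximalIdeal_eq.mpr e)
  refine le_trans (b := (1 : WithBot ℕ∞)) ?_ ?_
  · exact_mod_cast ((Submodule.spanFinrank_eq_one_iff _).mpr ⟨hprinc, hne⟩).le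
  · by_contra hlt
    push_neg at hlt
    apply hf
    haveI : Ring.KrullDimLE 0 L := Ring.krullDimLE_iff.mpr (by
      rw [Nat.cast_zero]
      cases hd : ringKrullDim L with
      | bot => exact bot_le
      | coe m =>
        rw [hd] at hlt
        have hm : m = 0 := ENat.lt_one_iff_eq_zero.1 (by exact_mod_cast hlt)
        exact le_of_eq (by rw [hm]; rfl))
    exact Ring.KrullDimLE.isField_of_isReduced

variable {k : Type u} [Field k] {N r : ℕ} (f : Fin r → MvPolynomial (Fin N) k)

theorem isCM_atPrime (J : Ideal (MvPolynomial (Fin N) k)) (hJdef : J = Ideal.span (Set.range f))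
    (hJ : J.height = r) (Q : Ideal (MvPolynomial (Fin N) k ⧸ J)) [Q.IsPrime] :
    LocCoh.IsCohenMacaulayLocalRing (Localization.AtPrime Q) ∧
      ((∀ i, Ideal.Quotient.mk J (X i) ∈ Q) →
        (N : WithBot ℕ∞) ≤ (Q.height : WithBot ℕ∞) + (r : WithBot ℕ∞)) := by
  let P := Q.comap (Ideal.Quotient.mk J)
  have hPdef : P = Q.comap (Ideal.Quotient.mk J) := rfl
  let L := Localization.AtPrime P
  haveI hCM : LocCoh.IsCohenMacaulayLocalRing L :=
    (GrothGr.isCohenMacaulayRing_mvPolynomial k N).isCohenMacaulayLocalRing_localization P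
  haveI : IsNoetherianRing L := IsLocalization.isNoetherianRing P.primeCompl L inferInstance
  obtain ⟨e⟩ := GrothGoren.nonempty_quotient_atPrime_equiv J Q
  set xs : List L := List.ofFn fun i => algebraMap _ L (f i) with hxs
  have hxsJ : Ideal.ofList xs = J.map (algebraMap _ L) := by
    conv_rhs => arg 2; rw [hJdef]
    rw [Ideal.map_span, ← Set.range_comp]
    simp [Ideal.ofList, xs, Set.range, Function.comp]
  have hJP : J ≤ P := fun x hx => by
    rw [hPdef, Ideal.mem_comap, Ideal.Quotient.eq_zero_iff_mem.2 hx]
    exact Q.zero_mem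
  have hJne : J.map (algebraMap _ L) ≤ maximalIdeal L := by
    rw [← Localization.AtPrime.map_eq_maximalIdeal (I := P)]
    exact Ideal.map_mono hJP
  have hmem : ∀ x ∈ xs, x ∈ maximalIdeal L := fun x hx =>
    hJne (hxsJ ▸ Ideal.subset_span hx)
  have hne : Ideal.ofList xs ≠ ⊤ := fun h =>
    (maximalIdeal.isMaximal L).ne_top (top_le_iff.1 (h ▸ hxsJ ▸ hJne))
  have hht : (xs.length : ℕ∞) ≤ (Ideal.ofList xs).height := by
    rw [hxs, List.length_ofFn, ← hJ, hxsJ, ← IsLocalization.height_under P.primeCompl (J.map _)]
    exact Ideal.height_mono Ideal.le_comap_map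
  have hreg := Groth.KoszShLib.isWeaklyRegular_of_height L hCM xs hne hht
  have hLm : LocCoh.IsCohenMacaulayModule L L := hCM.supportDim_eq_depth
  have hq := Groth.Ega4b.isCM_quotient_ofList xs L hLm hmem hreg
  have hdimeq := Groth.EGA41Two.supportDim_quotient_ofList (M := L) hmem hreg
  let eI : (L ⧸ Ideal.ofList xs • (⊤ : Submodule L L)) ≃ₗ[L] L ⧸ J.map (algebraMap _ L) :=
    Submodule.quotEquivOfEq _ _ (by rw [smul_eq_mul, Ideal.mul_top, hxsJ])
  have hq' : LocCoh.IsCohenMacaulayModule L (L ⧸ J.map (algebraMap _ L)) :=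
    (Groth.Ega4b.isCM_congr eI).1 hq
  rw [Module.supportDim_eq_of_equiv eI, Module.supportDim_quotient_eq_ringKrullDim,
    ringKrullDim_eq_of_ringEquiv e, IsLocalization.AtPrime.ringKrullDim_eq_height Q (Localization.AtPrime Q),
    hxs, List.length_ofFn, Module.supportDim_self_eq_ringKrullDim] at hdimeq
  haveI : Nontrivial (L ⧸ J.map (algebraMap _ L)) :=
    Ideal.Quotient.nontrivial_iff.2 (hxsJ ▸ hne)
  haveI : IsLocalRing (L ⧸ J.map (algebraMap _ L)) :=
    IsLocalRing.of_surjective' (Ideal.Quotient.mk _) Ideal.Quotient.mk_surjective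
  refine ⟨Groth.Ega4b.isCohenMacaulayLocalRing_of_ringEquiv e ?_, fun hX => ?_⟩
  · rw [Groth.Calg4.isCohenMacaulayLocalRing_iff_dim_eq,
      ← Groth.Smt.depth_eq_of_surjective L _ Ideal.Quotient.mk_surjective,
      ← Module.supportDim_quotient_eq_ringKrullDim]
    exact hq'
  · set ys : List L := (List.ofFn (X : Fin N → MvPolynomial (Fin N) k)).map (algebraMap _ L) with hys
    have hyreg : IsWeaklyRegular L ys :=
      (GrothGr.isWeaklyRegular_X k N).of_isLocalization L P.primeCompl
    have hymem : ∀ y ∈ ys, y ∈ maximalIdeal L := by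
      intro y hy
      simp only [hys, List.mem_map, List.mem_ofFn] at hy
      obtain ⟨_, ⟨i, rfl⟩, rfl⟩ := hy
      rw [IsLocalization.AtPrime.to_map_mem_maximal_iff L P, hPdef, Ideal.mem_comap]
      exact hX i
    have h2 := Groth.EGA41Two.supportDim_quotient_ofList (M := L) hymem hyreg
    rw [Module.supportDim_self_eq_ringKrullDim, hys, List.length_map, List.length_ofFn] at h2
    rw [hdimeq, ← h2]
    haveI : Nontrivial (L ⧸ Ideal.ofList ys • (⊤ : Submodule L L)) :=
      Submodule.Quotient.nontrivial_iff.2 fun h => (maximalIdeal.isMaximal L).ne_top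
        (top_le_iff.1 (by
          rw [← h, smul_eq_mul, Ideal.mul_top]
          exact Ideal.span_le.2 fun y hy => hymem y hy))
    refine le_add_of_nonneg_left ?_
    have hb := Module.supportDim_ne_bot_of_nontrivial L (L ⧸ Ideal.ofList ys • (⊤ : Submodule L L))
    cases hd : Module.supportDim L (L ⧸ Ideal.ofList ys • (⊤ : Submodule L L)) with
    | bot => exact absurd hd hb
    | coe m => exact WithBot.coe_le_coe.2 zero_le

section Graded

attribute [local instance] MvPolynomial.gradedAlgebra

/-- In a polynomial ring, multiplication by a polynomial with nonzero constant term is injective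
modulo a homogeneous ideal. -/
theorem mem_of_mul_mem_of_isHomogeneous {σ : Type*} {J : Ideal (MvPolynomial σ k)}
    (hJ : J.IsHomogeneous (homogeneousSubmodule σ k)) {s a : MvPolynomial σ k}
    (hs : coeff 0 s ≠ 0) (h : s * a ∈ J) : a ∈ J := by
  classical
  rw [mem_iff_homogeneousComponent_mem hJ]
  intro m
  induction m using Nat.strong_induction_on with
  | _ m ih =>
    set b := a - ∑ j ∈ Finset.range m, homogeneousComponent j a with hb
    have hbJ : s * b ∈ J := by
      rw [hb, mul_sub]
      exact J.sub_mem h (J.mul_mem_left _ (J.sum_mem fun j hj => ih j (Finset.mem_range.1 hj)))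
    have hblow : ∀ v : σ →₀ ℕ, v.degree < m → coeff v b = 0 := fun v hv => by
      simp [hb, coeff_sum, coeff_homogeneousComponent, hv]
    have hbm : homogeneousComponent m b = homogeneousComponent m a := by
      ext v
      simp only [coeff_homogeneousComponent]
      split
      · simp [hb, coeff_sum, coeff_homogeneousComponent]; omega
      · rfl
    have key : homogeneousComponent m (s * b) = C (coeff 0 s) * homogeneousComponent m b := by
      ext v
      rw [coeff_homogeneousComponent, coeff_C_mul, coeff_homogeneousComponent]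
      split
      · rename_i hv
        rw [coeff_mul, Finset.sum_eq_single (0, v)]
        · intro uv huv hne
          replace huv : uv.1 + uv.2 = v := Finset.HasAntidiagonal.mem_antidiagonal.1 huv
          have h1 : uv.1.degree + uv.2.degree = m := by rw [← map_add, huv, hv]
          rcases eq_or_ne uv.1 0 with h0 | h0
          · exact absurd (Prod.ext h0 (by rw [← huv, h0, zero_add])) hne
          · have : uv.1.degree ≠ 0 := fun h => h0 ((Finsupp.degree_eq_zero_iff _).1 h)
            rw [hblow uv.2 (by omega), mul_zero]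
        · simp
      · rw [mul_zero]
    have := homogeneousComponent_mem_of_mem hJ hbJ m
    rw [key, hbm] at this
    have h2 := J.mul_mem_left (C (coeff 0 s)⁻¹) this
    rwa [← mul_assoc, ← C_mul, inv_mul_cancel₀ hs, C_1, one_mul] at h2

end Graded

end Groth.CIntNormal
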